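import Groth.Agent.SyntLCI.Reduce
import Groth.Agent.SyntLCI.RelGCI
import Groth.Agent.Hensel.SmoothModel

/-!
# Syntomic algebras over a quotient lift to syntomic algebras

An étale neighbourhood of the affine space carries an idempotent matrix lifting the projector onto the conormal
module; the lifted equations are locally generated by sequences regular in the fibres.
-/

set_option autoImplicit false

noncomputable section

universe u

open IsLocalRing RingTheory.Sequence Matrix

namespace Groth.Agent.SyntLift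

open SyntLCI

/-- The projector onto the conormal module, on a chosen system of generators. -/
theorem exists_projector {B T : Type u} [CommRing B] [CommRing T] [Algebra B T] (hT : Synt.IsSyntomic B T) {n : ℕ}
    (φ : MvPolynomial (Fin n) B →ₐ[B] T) (hφ : Function.Surjective φ) (hfg : (RingHom.ker φ.toRingHom).FG) {m : ℕ}
    (y : Fin m → MvPolynomial (Fin n) B) (hy : Ideal.span (Set.range y) = RingHom.ker φ.toRingHom) :
    ∃ e : Matrix (Fin m) (Fin m) T, IsIdempotentElem e ∧
      (∀ j (c : Fin m → MvPolynomial (Fin n) B), (∀ k, φ (c k) = e j k) →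
        y j - ∑ k, c k * y k ∈ RingHom.ker φ.toRingHom ^ 2) ∧
      ∀ c : Fin m → MvPolynomial (Fin n) B, ∑ k, c k * y k ∈ RingHom.ker φ.toRingHom ^ 2 →
        (fun k => φ (c k)) ᵥ* e = 0 := by
  classical
  obtain ⟨hflat, -, hfib⟩ := hT
  have : Module.Flat B (MvPolynomial (Fin n) B ⧸ RingHom.ker φ.toRingHom) :=
    Module.Flat.of_linearEquiv (Ideal.quotientKerAlgEquivOfSurjective hφ).toLinearEquiv
  have hK := isKoszulRegularIdeal_of_fibReg _ hfg ((fibres_isLCIOver_iff φ hφ).1 hfib)
  let := φ.toRingHom.toAlgebra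
  have : IsScalarTower B (MvPolynomial (Fin n) B) T := .of_algebraMap_eq fun b => (φ.commutes b).symm
  let E : Algebra.Extension.{u} B T :=
    { Ring := MvPolynomial (Fin n) B, σ := Function.surjInv hφ, algebraMap_σ := Function.surjInv_eq hφ }
  have hker : E.ker = RingHom.ker φ.toRingHom := rfl
  obtain ⟨hfin, hproj⟩ := NLAmp.projective_cotangent E (NLAmp.hasLocalBases_of_isKoszulRegularIdeal hK)
  have hyE : ∀ j, y j ∈ E.ker := fun j => hy.le (Ideal.subset_span ⟨j, rfl⟩)
  let π : (Fin m → T) →ₗ[T] E.Cotangent :=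
    Fintype.linearCombination T fun j => Algebra.Extension.Cotangent.mk ⟨y j, hyE j⟩
  have hπ : Function.Surjective π := by
    rw [← LinearMap.range_eq_top, Fintype.range_linearCombination]
    exact Algebra.Extension.Cotangent.span_eq_top_of_span_eq_ker (P := E) y (hy.trans hker.symm)
  have hπc : ∀ c : Fin m → MvPolynomial (Fin n) B, π (fun k => φ (c k)) =
      Algebra.Extension.Cotangent.mk (∑ k, c k • (⟨y k, hyE k⟩ : E.ker)) := fun c => by
    rw [Fintype.linearCombination_apply]
    exact NLAmp.sum_smul_mk E c fun k => ⟨y k, hyE k⟩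
  obtain ⟨s, hs⟩ := Module.projective_lifting_property π (LinearMap.id (R := T) (M := E.Cotangent)) hπ
  have hsπ : ∀ z, π (s z) = z := fun z => LinearMap.congr_fun hs z
  let e : Matrix (Fin m) (Fin m) T := Matrix.of fun j k => s (π (Pi.single j 1)) k
  have hwe : ∀ w : Fin m → T, w ᵥ* e = s (π w) := fun w => by
    have h : w = ∑ j, w j • (Pi.single j 1 : Fin m → T) := pi_eq_sum_univ' w
    conv_rhs => rw [h, map_sum, map_sum]
    ext k
    simp only [Matrix.vecMul, dotProduct, e, Matrix.of_apply, Finset.sum_apply, map_smul, Pi.smul_apply, smul_eq_mul]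
  refine ⟨e, ?_, fun j c hc => ?_, fun c hc => ?_⟩
  · ext j k
    show ((e j) ᵥ* e) k = e j k
    rw [hwe]
    show s (π (s (π (Pi.single j 1)))) k = _
    rw [hsπ]
    rfl
  · have h1 : π (fun k => φ (c k)) = π (Pi.single j 1) := by
      rw [show (fun k => φ (c k)) = s (π (Pi.single j 1)) from funext hc, hsπ]
    rw [hπc, Fintype.linearCombination_apply_single, one_smul, Algebra.Extension.Cotangent.mk_eq_mk_iff_sub_mem] at h1
    have h2 := neg_mem h1
    rw [neg_sub] at h2
    simpa [hker] using h2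
  · rw [hwe, hπc, (Algebra.Extension.Cotangent.mk_eq_zero_iff _).2 (by simpa [hker] using hc), map_zero]

variable {A : Type u} [CommRing A] (I : Ideal A)

/-- Regular sequences in the fibre over `A ⧸ I` stay regular on an étale neighbourhood over `A`. -/
theorem isWeaklyRegular_etale_fibre {n : ℕ} {P₀ : Type u} [CommRing P₀] [Algebra (MvPolynomial (Fin n) A) P₀] [Algebra A P₀]
    [IsScalarTower A (MvPolynomial (Fin n) A) P₀] [Module.Flat (MvPolynomial (Fin n) A) P₀] (q : Ideal P₀) [q.IsPrime]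
    (q' : Ideal (MvPolynomial (Fin n) (A ⧸ I))) [q'.IsPrime]
    (hq : q'.comap (MvPolynomial.map (Ideal.Quotient.mk I)) = q.comap (algebraMap (MvPolynomial (Fin n) A) P₀))
    {r : ℕ} (a : Fin r → MvPolynomial (Fin n) A)
    (hreg : IsWeaklyRegular (Localization.AtPrime q' ⧸ fibIdeal q')
      (List.ofFn fun i => Ideal.Quotient.mk (fibIdeal q') (algebraMap _ _ (MvPolynomial.map (Ideal.Quotient.mk I) (a i))))) :
    IsWeaklyRegular (Localization.AtPrime q ⧸ (q.comap (algebraMap A P₀)).map (algebraMap A (Localization.AtPrime q)))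
      (List.ofFn fun i => Ideal.Quotient.mk ((q.comap (algebraMap A P₀)).map (algebraMap A (Localization.AtPrime q)))
        (algebraMap P₀ _ (algebraMap (MvPolynomial (Fin n) A) P₀ (a i)))) := by
  obtain ⟨ψ, e, hψs, hψ, he, -⟩ := exists_red_localRing I q'
  set q₀ := q'.comap (MvPolynomial.map (σ := Fin n) (Ideal.Quotient.mk I)) with hq₀
  have h0 : IsWeaklyRegular (Localization.AtPrime q₀ ⧸ fibIdeal q₀)
      (List.ofFn fun i => Ideal.Quotient.mk (fibIdeal q₀) (algebraMap (MvPolynomial (Fin n) A) _ (a i))) := by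
    have h1 := isWeaklyRegular_map_ringEquiv (R := Localization.AtPrime q' ⧸ fibIdeal q')
      (R' := Localization.AtPrime q₀ ⧸ fibIdeal q₀) e.symm hreg
    rw [List.map_ofFn] at h1
    have hf : (fun i => Ideal.Quotient.mk (fibIdeal q₀) (algebraMap (MvPolynomial (Fin n) A) _ (a i))) =
        e.symm ∘ fun i => Ideal.Quotient.mk (fibIdeal q') (algebraMap _ _ (MvPolynomial.map (Ideal.Quotient.mk I) (a i))) :=
      funext fun i => by
        show _ = e.symm _
        rw [e.eq_symm_apply, he, hψ]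
    rw [hf]
    exact h1
  let S1 := Localization.AtPrime q₀
  let S2 := Localization.AtPrime q
  let := (Localization.localRingHom q₀ q (algebraMap (MvPolynomial (Fin n) A) P₀) hq).toAlgebra
  have : IsScalarTower (MvPolynomial (Fin n) A) S1 S2 := .of_algebraMap_eq fun x => (Localization.localRingHom_to_map q₀ q _ hq x).symm
  have : IsScalarTower A S1 S2 := .of_algebraMap_eq fun x => by
    rw [IsScalarTower.algebraMap_apply A (MvPolynomial (Fin n) A) S2, IsScalarTower.algebraMap_apply A (MvPolynomial (Fin n) A) S1,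
      ← IsScalarTower.algebraMap_apply (MvPolynomial (Fin n) A) S1 S2]
  have : Module.Flat P₀ S2 := IsLocalization.flat S2 q.primeCompl
  have : Module.Flat (MvPolynomial (Fin n) A) S2 := Module.Flat.trans (MvPolynomial (Fin n) A) P₀ S2
  have : Module.Flat S1 S2 := (Module.flat_iff_of_isLocalization S1 q₀.primeCompl S2).2 inferInstance
  have hJ : (fibIdeal q₀).map (algebraMap S1 S2) = (q.comap (algebraMap A P₀)).map (algebraMap A S2) := by
    rw [fibIdeal, Ideal.map_map, ← IsScalarTower.algebraMap_eq, hq, Ideal.comap_comap, ← IsScalarTower.algebraMap_eq]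
  have : Module.Flat (S1 ⧸ fibIdeal q₀) (S2 ⧸ (fibIdeal q₀).map (algebraMap S1 S2)) :=
    Module.Flat.of_linearEquiv (Algebra.TensorProduct.quotIdealMapEquivQuotTensor S2 (fibIdeal q₀)).toLinearEquiv
  have h2 := h0.of_flat (S := S2 ⧸ (fibIdeal q₀).map (algebraMap S1 S2))
  rw [List.map_ofFn] at h2
  have h3 := isWeaklyRegular_map_ringEquiv (R := S2 ⧸ (fibIdeal q₀).map (algebraMap S1 S2))
    (R' := S2 ⧸ (q.comap (algebraMap A P₀)).map (algebraMap A S2)) (Ideal.quotEquivOfEq hJ) h2
  rw [List.map_ofFn] at h3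
  refine (congrArg (IsWeaklyRegular _) (congrArg List.ofFn (funext fun i => ?_))).mpr h3
  simp only [Function.comp_apply]
  show _ = Ideal.quotEquivOfEq hJ (Ideal.Quotient.mk ((fibIdeal q₀).map (algebraMap S1 S2))
    (algebraMap S1 S2 (algebraMap (MvPolynomial (Fin n) A) S1 (a i))))
  rw [Ideal.quotEquivOfEq_mk]
  rw [← IsScalarTower.algebraMap_apply, ← IsScalarTower.algebraMap_apply]

section Main

variable {T : Type u} [CommRing T] [Algebra A T] [Algebra (A ⧸ I) T] [IsScalarTower A (A ⧸ I) T]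
  (hT : Synt.IsSyntomic (A ⧸ I) T)

set_option maxHeartbeats 1600000 in
include hT in
/-- A syntomic algebra over `A ⧸ I` is the reduction of a syntomic `A`-algebra. -/
theorem exists_syntomic_lift : ∃ (R : Type u) (_ : CommRing R) (_ : Algebra A R) (τ : R →ₐ[A] T),
    Synt.IsSyntomic A R ∧ Function.Surjective τ ∧ RingHom.ker τ.toRingHom = I.map (algebraMap A R) := by
  classical
  obtain ⟨hflatT, hfpT, hfib⟩ := id hT
  obtain ⟨n, φb, hφb, hJfg⟩ := Algebra.FinitePresentation.out (R := A ⧸ I) (A := T)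
  let P := MvPolynomial (Fin n) A
  let C := MvPolynomial (Fin n) (A ⧸ I)
  let μ : P →ₐ[A] C := MvPolynomial.mapAlgHom (Ideal.Quotient.mkₐ A I)
  have hμs : Function.Surjective μ := MvPolynomial.map_surjective _ Ideal.Quotient.mk_surjective
  have hkμ : RingHom.ker μ.toRingHom = I.map (algebraMap A P) :=
    (MvPolynomial.ker_map _).trans (congrArg _ Ideal.mk_ker)
  set J := RingHom.ker φb.toRingHom with hJdef
  obtain ⟨m, y, hy⟩ := Submodule.fg_iff_exists_fin_generating_family.1 hJfg
  replace hy : Ideal.span (Set.range y) = J := hy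
  obtain ⟨e, hee, he1, he2⟩ := exists_projector hT φb hφb hJfg y hy
  let φ : P →ₐ[A] T := (φb.restrictScalars A).comp μ
  have hφ : Function.Surjective φ := hφb.comp hμs
  set K₀ := RingHom.ker φ.toRingHom with hK₀def
  choose yl hyl using fun j => hμs (y j)
  have hK₀μ : K₀.map μ.toRingHom = J := by
    rw [hK₀def, show RingHom.ker φ.toRingHom = J.comap μ.toRingHom from (RingHom.comap_ker _ _).symm]
    exact Ideal.map_comap_of_surjective _ hμs _
  have hK₀span : K₀ = Ideal.span (Set.range yl) ⊔ I.map (algebraMap A P) := by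
    rw [hK₀def, show RingHom.ker φ.toRingHom = J.comap μ.toRingHom from (RingHom.comap_ker _ _).symm,
      show J = (Ideal.span (Set.range yl)).map μ.toRingHom by
        rw [← hy, Ideal.map_span, ← Set.range_comp, ← funext hyl]; rfl,
      Ideal.comap_map_of_surjective μ.toRingHom hμs, ← RingHom.ker_eq_comap_bot, hkμ]
  let eT : (P ⧸ K₀) ≃ₐ[A] T := Ideal.quotientKerAlgEquivOfSurjective hφ
  obtain ⟨P₀, _, _, σ₀, het, hσs, hσk, E, hE, hEσ⟩ := Hensel.SmoothModel.exists_etale_lift_idem_matrix K₀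
    (e.map eT.symm) (by
      show _ * _ = _
      rw [← Matrix.map_mul, hee.eq])
  let : Algebra A P₀ := ((algebraMap P P₀).comp (algebraMap A P)).toAlgebra
  have : IsScalarTower A P P₀ := .of_algebraMap_eq fun _ => rfl
  have : Algebra.Smooth A P := ⟨inferInstance, inferInstance⟩
  have : Algebra.Smooth A P₀ := Algebra.Smooth.comp A P P₀
  let ρ : P₀ →ₐ[A] T := eT.toAlgHom.comp (σ₀.restrictScalars A)
  have hρP : ∀ x, ρ (algebraMap P P₀ x) = φ x := fun x => by
    show eT (σ₀ (algebraMap P P₀ x)) = _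
    rw [σ₀.commutes]
    rfl
  have hρE : ∀ j k, ρ (E j k) = e j k := fun j k => by
    show eT (σ₀ (E j k)) = _
    rw [show σ₀ (E j k) = eT.symm (e j k) from congrFun (congrFun hEσ j) k, eT.apply_symm_apply]
  have hρs : Function.Surjective ρ := eT.surjective.comp hσs
  set K := RingHom.ker ρ.toRingHom with hKdef
  have hKmap : K = K₀.map (algebraMap P P₀) := by
    rw [← hσk]
    exact Ideal.ext fun x => map_eq_zero_iff eT eT.injective
  let yl₀ : Fin m → P₀ := fun j => algebraMap P P₀ (yl j)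
  have hylK : ∀ j, yl₀ j ∈ K := fun j => by
    rw [hKmap]
    refine Ideal.mem_map_of_mem _ ?_
    rw [hK₀span]
    exact Submodule.mem_sup_left (Ideal.subset_span ⟨j, rfl⟩)
  set IP := I.map (algebraMap A P₀) with hIPdef
  have hIPP : (I.map (algebraMap A P)).map (algebraMap P P₀) = IP := by
    rw [Ideal.map_map, ← IsScalarTower.algebraMap_eq]
  have hIPK : IP ≤ K := by
    rw [← hIPP, hKmap, hK₀span]
    exact Ideal.map_mono le_sup_right
  have hKy : K = Ideal.span (Set.range yl₀) ⊔ IP := by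
    rw [hKmap, hK₀span, Ideal.map_sup, hIPP, Ideal.map_span, ← Set.range_comp]
    rfl
  -- the retraction to the first infinitesimal neighbourhood
  let Q := C ⧸ J ^ 2
  let : Algebra P Q := ((Ideal.Quotient.mk (J ^ 2)).comp μ.toRingHom).toAlgebra
  let : Algebra P T := φ.toRingHom.toAlgebra
  let ρP : P₀ →ₐ[P] T := { ρ.toRingHom with commutes' := hρP }
  let gq : Q →ₐ[P] T :=
    { Ideal.Quotient.lift (J ^ 2) φb.toRingHom (fun x hx => Ideal.pow_le_self two_ne_zero hx) with commutes' := fun x => rfl }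
  have hgq : ∀ x, gq (Ideal.Quotient.mk (J ^ 2) x) = φb x := fun x => rfl
  have hgqs : Function.Surjective gq := fun t => ⟨Ideal.Quotient.mk _ (hφb t).choose, (hgq _).trans (hφb t).choose_spec⟩
  have hgqn : ∀ a b : Q, gq a = 0 → gq b = 0 → a * b = 0 := fun a b ha hb => by
    obtain ⟨a, rfl⟩ := Ideal.Quotient.mk_surjective a
    obtain ⟨b, rfl⟩ := Ideal.Quotient.mk_surjective b
    rw [← map_mul, Ideal.Quotient.eq_zero_iff_mem, pow_two]
    exact Ideal.mul_mem_mul ((hgq a).symm.trans ha) ((hgq b).symm.trans hb)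
  have hnil : IsNilpotent (RingHom.ker (gq : Q →+* T)) := by
    refine ⟨2, le_bot_iff.1 ?_⟩
    refine le_of_eq_of_le (Submodule.pow_succ (M := RingHom.ker (gq : Q →+* T)) (n := 1)) ?_
    rw [Submodule.pow_one]
    exact Ideal.mul_le.2 fun a ha b hb => hgqn a b ha hb
  let ψ : P₀ →ₐ[P] Q := Algebra.FormallySmooth.liftOfSurjective ρP gq hgqs hnil
  have hψ : ∀ x, gq (ψ x) = ρ x := Algebra.FormallySmooth.liftOfSurjective_apply ρP gq hgqs hnil
  -- injectivity on the image of the projector
  have hinj : ∀ w : Fin m → P₀, w ᵥ* E = w → ∑ j, w j * yl₀ j ∈ K * K ⊔ IP → ∀ j, ρ (w j) = 0 := by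
    intro w hw hmem
    choose c hc using fun j => hφb (ρ (w j))
    have h1 : ψ (∑ j, w j * yl₀ j) = Ideal.Quotient.mk (J ^ 2) (∑ j, c j * y j) := by
      rw [map_sum, map_sum]
      refine Finset.sum_congr rfl fun j _ => ?_
      rw [map_mul, map_mul, show ψ (yl₀ j) = Ideal.Quotient.mk (J ^ 2) (y j) from
        (ψ.commutes (yl j)).trans (congrArg _ (hyl j)), ← sub_eq_zero, ← sub_mul]
      refine hgqn _ _ ?_ ?_
      · rw [map_sub, hψ, hgq, hc, sub_self]
      · rw [hgq]
        exact hy.le (Ideal.subset_span ⟨j, rfl⟩)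
    have h2 : ψ (∑ j, w j * yl₀ j) = 0 := by
      have hle : K * K ⊔ IP ≤ RingHom.ker ψ.toRingHom := sup_le (Ideal.mul_le.2 fun a ha b hb => by
          rw [RingHom.mem_ker]
          exact (map_mul ψ a b).trans (hgqn _ _ ((hψ a).trans ha) ((hψ b).trans hb))) (by
        rw [← hIPP, Ideal.map_le_iff_le_comap]
        intro x hx
        show ψ (algebraMap P P₀ x) = 0
        rw [ψ.commutes]
        show Ideal.Quotient.mk (J ^ 2) (μ x) = 0
        rw [show μ x = 0 from hkμ.ge hx, map_zero])
      exact hle hmem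
    have h3 := he2 c (Ideal.Quotient.eq_zero_iff_mem.1 (h1.symm.trans h2))
    intro j
    have h4 : ρ (w j) = ((fun k => φb (c k)) ᵥ* e) j := by
      conv_lhs => rw [← hw]
      simp only [Matrix.vecMul, dotProduct, map_sum, map_mul, hρE, hc]
    rw [h4, h3, Pi.zero_apply]
  -- the lifted equations
  let g : Fin m → P₀ := E *ᵥ yl₀
  have hEg : E *ᵥ g = g := by simp only [g, Matrix.mulVec_mulVec, hE.eq]
  have hgy : ∀ j, yl₀ j - g j ∈ K * K ⊔ IP := by
    intro j
    choose el hel using fun k => hφ (e j k)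
    have h1 := he1 j (fun k => μ (el k)) fun k => hel k
    have h2 : yl j - ∑ k, el k * yl k ∈ K₀ * K₀ ⊔ I.map (algebraMap A P) := by
      rw [← hkμ, RingHom.ker_eq_comap_bot, ← Ideal.comap_map_of_surjective μ.toRingHom hμs, Ideal.mem_comap,
        Ideal.map_mul, hK₀μ, ← pow_two]
      simp only [map_sub, map_sum, map_mul, AlgHom.toRingHom_eq_coe, RingHom.coe_coe, hyl]
      exact h1
    have h3 := Ideal.mem_map_of_mem (algebraMap P P₀) h2
    rw [Ideal.map_sup, Ideal.map_mul, ← hKmap, hIPP, map_sub, map_sum] at h3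
    have h4 : ∑ k, algebraMap P P₀ (el k * yl k) - g j ∈ K * K ⊔ IP := by
      simp only [g, Matrix.mulVec, dotProduct, ← Finset.sum_sub_distrib, map_mul]
      refine Ideal.sum_mem _ fun k _ => Submodule.mem_sup_left ?_
      rw [← sub_mul]
      refine Ideal.mul_mem_mul ?_ (hylK k)
      rw [hKdef, RingHom.mem_ker]
      show ρ _ = 0
      rw [map_sub, hρP, hel, hρE, sub_self]
    simpa using add_mem h3 h4
  have hgK : ∀ j, g j ∈ K := fun j => show ∑ k, E j k * yl₀ k ∈ K from Ideal.sum_mem _ fun k _ => Ideal.mul_mem_left _ _ (hylK k)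
  obtain ⟨u, hu1, hu⟩ := Submodule.exists_sub_one_mem_and_smul_le_of_fg_of_le_sup (R := P₀) (M := P₀)
    (I := K) (N := Ideal.span (Set.range g) ⊔ IP) (N' := Ideal.span (Set.range yl₀)) (P := Ideal.span (Set.range yl₀))
    (Submodule.fg_span (Set.finite_range _)) le_rfl (Ideal.span_le.2 (by
      rintro _ ⟨j, rfl⟩
      obtain ⟨a, ha, b, hb, hab⟩ := Submodule.mem_sup.1 (hgy j)
      have ha' : a ∈ K * Ideal.span (Set.range yl₀) ⊔ IP := by
        refine (?_ : K * K ≤ _) ha
        conv_lhs => arg 2; rw [hKy]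
        rw [Ideal.mul_sup]
        exact sup_le_sup le_rfl Ideal.mul_le_right
      obtain ⟨a₁, ha₁, a₂, ha₂, ha₁₂⟩ := Submodule.mem_sup.1 ha'
      rw [show yl₀ j = (g j + (b + a₂)) + a₁ by
        rw [← sub_eq_iff_eq_add', ] at *
        linear_combination hab.symm + ha₁₂.symm]
      exact Submodule.add_mem_sup (Submodule.add_mem_sup (Ideal.subset_span ⟨j, rfl⟩) (add_mem hb ha₂))
        (by rw [smul_eq_mul]; exact ha₁)))
  have huK : ∀ x ∈ K, u * x ∈ Ideal.span (Set.range g) ⊔ IP := by
    intro x hx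
    rw [hKy] at hx
    obtain ⟨a, ha, b, hb, rfl⟩ := Submodule.mem_sup.1 hx
    rw [mul_add]
    exact add_mem (hu (Submodule.smul_mem_pointwise_smul _ u _ ha)) (Submodule.mem_sup_right (Ideal.mul_mem_left _ _ hb))
  -- flatness along the special fibre
  have hflat : ∀ (q : Ideal P₀) [q.IsPrime], Ideal.span (Set.range g) ≤ q → IP ≤ q → u ∉ q →
      Module.Flat A (Localization.AtPrime q ⧸ (Ideal.span (Set.range g)).map (algebraMap P₀ (Localization.AtPrime q))) := by
    intro q hqp hgq hIq huq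
    have hKq : K ≤ q := fun x hx => (hqp.mem_or_mem (sup_le hgq hIq (huK x hx))).resolve_left huq
    set q₀ := q.comap (algebraMap P P₀) with hq₀
    have hK₀q : K₀ ≤ q₀ := Ideal.map_le_iff_le_comap.1 (hKmap ▸ hKq)
    let qb := q₀.map μ.toRingHom
    have hμq : RingHom.ker μ.toRingHom ≤ q₀ := by
      refine le_trans ?_ hK₀q
      rw [hkμ, hK₀span]
      exact le_sup_right
    have hqb : qb.IsPrime := Ideal.map_isPrime_of_surjective hμs hμq
    have hqb' : qb.comap μ.toRingHom = q₀ := by
      show (q₀.map μ.toRingHom).comap μ.toRingHom = q₀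
      rw [Ideal.comap_map_of_surjective μ.toRingHom hμs, ← RingHom.ker_eq_comap_bot]
      exact sup_eq_left.2 hμq
    have hJqb : J ≤ qb := hK₀μ ▸ Ideal.map_mono hK₀q
    have : Module.Flat (A ⧸ I) (C ⧸ J) :=
      Module.Flat.of_linearEquiv (Ideal.quotientKerAlgEquivOfSurjective hφb).toLinearEquiv
    obtain ⟨r, z, hz, hzle, hzreg⟩ := (fibres_isLCIOver_iff φb hφb).1 hfib qb hJqb
    have hzJ := span_eq_of_fibre J hJfg qb z hz hzle
    choose a v' haJ hv' hav using fun k => NLAmp.exists_mem_mul qb (hz k)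
    have hreg1 : IsWeaklyRegular (Localization.AtPrime qb ⧸ fibIdeal qb)
        (List.ofFn fun k => Ideal.Quotient.mk (fibIdeal qb) (algebraMap C _ (a k))) := by
      have h := NLAmp.unit_seq_regular _ (fun k => Ideal.Quotient.mk (fibIdeal qb) (v' k)) (fun k => (hv' k).map _) hzreg
      simp only [← map_mul, ← hav] at h
      exact h
    -- a common denominator
    have hgen : ∀ j, ∃ t, t ∉ qb ∧ t * y j ∈ Ideal.span (Set.range a) := fun j => by
      have h1 : algebraMap C (Localization.AtPrime qb) (y j) ∈ (Ideal.span (Set.range a)).map (algebraMap C _) := by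
        have h2 : algebraMap C (Localization.AtPrime qb) (y j) ∈ Ideal.span (Set.range z) :=
          hzJ.ge (Ideal.mem_map_of_mem _ (hy.le (Ideal.subset_span ⟨j, rfl⟩)))
        refine (Ideal.span_le.2 ?_) h2
        rintro _ ⟨k, rfl⟩
        refine (Ideal.mul_unit_mem_iff_mem _ (hv' k)).1 ?_
        rw [← hav]
        exact Ideal.mem_map_of_mem _ (Ideal.subset_span ⟨k, rfl⟩)
      obtain ⟨t, ht, hty⟩ := (IsLocalization.algebraMap_mem_map_algebraMap_iff qb.primeCompl _ _ _).1 h1
      exact ⟨t, ht, hty⟩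
    choose t' ht' hty' using hgen
    have htq : ∏ j, t' j ∉ qb := fun hmem => by
      obtain ⟨j, -, hj⟩ := hqb.prod_mem_iff.1 hmem
      exact ht' j hj
    have hty : ∀ j, (∏ i, t' i) * y j ∈ Ideal.span (Set.range a) := fun j => by
      rw [← Finset.prod_erase_mul _ _ (Finset.mem_univ j), mul_assoc]
      exact Ideal.mul_mem_left _ _ (hty' j)
    choose c hc using fun j => Ideal.mem_span_range_iff_exists_fun.1 (hty j)
    choose v hv using fun k => Ideal.mem_span_range_iff_exists_fun.1 (hy.ge (haJ k))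
    choose cl hcl using fun j k => hμs (c j k)
    choose vl hvl using fun k j => hμs (v k j)
    obtain ⟨tl, htl⟩ := hμs (∏ i, t' i)
    let al : Fin r → P := fun k => ∑ j, vl k j * yl j
    have hal : ∀ k, μ (al k) = a k := fun k => by simp only [al, map_sum, map_mul, hvl, hyl, hv]
    -- the equations near `q`
    have haw : ∀ k, ∃ w : Fin m → P₀, u * algebraMap P P₀ (al k) - ∑ l, w l * g l ∈ IP := fun k => by
      obtain ⟨x, hx, i, hi, hxi⟩ := Submodule.mem_sup.1 (huK (algebraMap P P₀ (al k)) (by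
        rw [hKmap]
        refine Ideal.mem_map_of_mem _ ?_
        rw [hK₀span]
        exact Submodule.mem_sup_left (Ideal.sum_mem _ fun j _ => Ideal.mul_mem_left _ _ (Ideal.subset_span ⟨j, rfl⟩))))
      obtain ⟨w, rfl⟩ := Ideal.mem_span_range_iff_exists_fun.1 hx
      exact ⟨w, by rw [← hxi, add_sub_cancel_left]; exact hi⟩
    choose w hw using haw
    let Wm : Matrix (Fin r) (Fin m) P₀ := Matrix.of w
    let aw : Fin r → P₀ := Wm *ᵥ g
    have hawal : ∀ k, u * algebraMap P P₀ (al k) - aw k ∈ IP := hw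
    let Cm : Matrix (Fin m) (Fin r) P₀ := Matrix.of fun j k => algebraMap P P₀ (cl j k)
    let ut : P₀ := u * algebraMap P P₀ tl
    let W : Matrix (Fin m) (Fin m) P₀ := ut • E - E * Cm * Wm * E
    have hWE : W * E = W := by
      simp only [W, sub_mul, smul_mul_assoc, Matrix.mul_assoc, hE.eq]
    have hWg : W *ᵥ g = ut • g - E *ᵥ (Cm *ᵥ aw) := by
      simp only [W, aw, Matrix.sub_mulVec, Matrix.smul_mulVec, hEg, ← Matrix.mulVec_mulVec]
    have hdiff : ∀ j, (ut • yl₀ - Cm *ᵥ aw) j ∈ IP := fun j => by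
      have h1 : tl * yl j - ∑ k, cl j k * al k ∈ I.map (algebraMap A P) := by
        rw [← hkμ, RingHom.mem_ker]
        show μ _ = 0
        simp only [map_sub, map_sum, map_mul, htl, hyl, hcl, hal, hc, sub_self]
      have h2 := Ideal.mem_map_of_mem (algebraMap P P₀) h1
      rw [hIPP, map_sub, map_sum] at h2
      have h3 : (ut • yl₀ - Cm *ᵥ aw) j = u * (algebraMap P P₀ (tl * yl j) - ∑ k, algebraMap P P₀ (cl j k * al k)) +
          ∑ k, algebraMap P P₀ (cl j k) * (u * algebraMap P P₀ (al k) - aw k) := by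
        simp only [Pi.sub_apply, Pi.smul_apply, smul_eq_mul, Matrix.mulVec, dotProduct, Cm, Matrix.of_apply, ut, yl₀,
          map_mul, mul_sub, Finset.sum_sub_distrib, Finset.mul_sum]
        ring_nf
      rw [h3]
      exact add_mem (Ideal.mul_mem_left _ _ h2) (Ideal.sum_mem _ fun k _ => Ideal.mul_mem_left _ _ (hawal k))
    have hWI : ∀ j, (W *ᵥ g) j ∈ IP := fun j => by
      rw [hWg, show ut • g - E *ᵥ (Cm *ᵥ aw) = E *ᵥ (ut • yl₀ - Cm *ᵥ aw) by
        rw [Matrix.mulVec_sub, Matrix.mulVec_smul]]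
      show ∑ k, E j k * (ut • yl₀ - Cm *ᵥ aw) k ∈ IP
      exact Ideal.sum_mem _ fun k _ => Ideal.mul_mem_left _ _ (hdiff k)
    have hWK : ∀ j l, W j l ∈ K := by
      intro j
      refine hinj (W j) (congrFun hWE j) (Submodule.mem_sup_right ?_)
      have h := hWI j
      rwa [show g = E *ᵥ yl₀ from rfl, Matrix.mulVec_mulVec, hWE] at h
    have hD : (ut • (1 : Matrix (Fin m) (Fin m) P₀) - W).det ∉ q := by
      intro hmem
      rw [← Ideal.Quotient.eq_zero_iff_mem, RingHom.map_det] at hmem
      have h1 : (Ideal.Quotient.mk q).mapMatrix (ut • (1 : Matrix (Fin m) (Fin m) P₀) - W) =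
          Ideal.Quotient.mk q ut • (1 : Matrix (Fin m) (Fin m) (P₀ ⧸ q)) := by
        ext j l
        rcases eq_or_ne j l with rfl | h
        · simp [Ideal.Quotient.eq_zero_iff_mem.2 (hKq (hWK j j))]
        · simp [Ideal.Quotient.eq_zero_iff_mem.2 (hKq (hWK j l)), h]
      rw [h1, Matrix.det_smul, Matrix.det_one, mul_one] at hmem
      have h2 : Ideal.Quotient.mk q ut = 0 := eq_zero_of_pow_eq_zero hmem
      rw [Ideal.Quotient.eq_zero_iff_mem] at h2
      refine (hqp.mem_or_mem h2).elim huq fun h3 => htq ?_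
      rw [← htl]
      exact Ideal.mem_map_of_mem _ (show tl ∈ q₀ from h3)
    have hspan : ∀ j, (ut • (1 : Matrix (Fin m) (Fin m) P₀) - W).det * g j ∈ Ideal.span (Set.range aw) := fun j => by
      have h1 : (ut • (1 : Matrix (Fin m) (Fin m) P₀) - W) *ᵥ g = E *ᵥ (Cm *ᵥ aw) := by
        rw [Matrix.sub_mulVec, Matrix.smul_mulVec, Matrix.one_mulVec, hWg, sub_sub_cancel]
      have h2 := congrArg ((ut • (1 : Matrix (Fin m) (Fin m) P₀) - W).adjugate *ᵥ ·) h1
      simp only [Matrix.mulVec_mulVec, Matrix.adjugate_mul, Matrix.smul_mulVec, Matrix.one_mulVec] at h2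
      rw [show (ut • (1 : Matrix (Fin m) (Fin m) P₀) - W).det * g j = _ from congrFun h2 j]
      simp only [Matrix.mulVec, dotProduct]
      exact Ideal.sum_mem _ fun k _ => Ideal.mul_mem_left _ _ (Ideal.subset_span ⟨k, rfl⟩)
    have hreg2 := isWeaklyRegular_etale_fibre I q qb hqb' al (by
      have hf : (fun k => Ideal.Quotient.mk (fibIdeal qb) (algebraMap C _ (μ (al k)))) =
          fun k => Ideal.Quotient.mk (fibIdeal qb) (algebraMap C _ (a k)) := funext fun k => by rw [hal]
      exact hf ▸ hreg1)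
    let S2 := Localization.AtPrime q
    let pS := (q.comap (algebraMap A P₀)).map (algebraMap A S2)
    have hu' : IsUnit (Ideal.Quotient.mk pS (algebraMap P₀ S2 u)) :=
      (IsLocalization.map_units S2 (⟨u, huq⟩ : q.primeCompl)).map _
    have hreg3 := NLAmp.unit_seq_regular _ (fun _ : Fin r => Ideal.Quotient.mk pS (algebraMap P₀ S2 u)) (fun _ => hu') hreg2
    have hIpS : ∀ x ∈ IP, Ideal.Quotient.mk pS (algebraMap P₀ S2 x) = 0 := fun x hx => by
      rw [Ideal.Quotient.eq_zero_iff_mem]
      have h1 := Ideal.mem_map_of_mem (algebraMap P₀ S2) hx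
      rw [hIPdef, Ideal.map_map, ← IsScalarTower.algebraMap_eq] at h1
      exact Ideal.map_mono (Ideal.map_le_iff_le_comap.1 hIq) h1
    have hreg4 : IsWeaklyRegular (S2 ⧸ pS) ((List.ofFn aw).map (algebraMap P₀ (S2 ⧸ pS))) := by
      rw [List.map_ofFn]
      have hf : ⇑(algebraMap P₀ (S2 ⧸ pS)) ∘ aw = fun k =>
          Ideal.Quotient.mk pS (algebraMap P₀ S2 (algebraMap P P₀ (al k))) * Ideal.Quotient.mk pS (algebraMap P₀ S2 u) :=
        funext fun k => by
          show Ideal.Quotient.mk pS (algebraMap P₀ S2 (aw k)) = _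
          rw [← map_mul, ← map_mul, mul_comm, ← sub_eq_zero, ← map_sub, ← map_sub]
          exact hIpS _ (by rw [← neg_sub]; exact neg_mem (hawal k))
      rw [hf]
      exact hreg3
    rw [isWeaklyRegular_map_algebraMap_iff] at hreg4
    let pP := (q.comap (algebraMap A P₀)).map (algebraMap A P₀)
    have hsub : (pP • ⊤ : Submodule P₀ S2) = pS.restrictScalars P₀ := by
      rw [Ideal.smul_top_eq_map, Ideal.map_map, ← IsScalarTower.algebraMap_eq]
    have hreg5 : IsWeaklyRegular (S2 ⧸ (pP • ⊤ : Submodule P₀ S2)) (List.ofFn aw) :=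
      (((Submodule.quotEquivOfEq _ _ hsub).trans (Submodule.Quotient.restrictScalarsEquiv P₀ pS)).isWeaklyRegular_congr _).2 hreg4
    have : Module.Flat P₀ S2 := IsLocalization.flat S2 q.primeCompl
    have : Module.Flat A S2 := Module.Flat.trans A P₀ S2
    obtain ⟨g₁, hg₁, hsl⟩ := FlatSlice.exists_sliced (R := A) q (List.ofFn aw) hreg5
    have := hsl.flat_quotient
    have h6 := flat_atPrime_quotient (R := A) g₁ q hg₁ (Ideal.ofList (List.ofFn aw))
    rw [NLAmp.ofList_ofFn] at h6
    have heq : (Ideal.span (Set.range g)).map (algebraMap P₀ S2) = (Ideal.span (Set.range aw)).map (algebraMap P₀ S2) := by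
      refine le_antisymm ?_ (Ideal.map_mono (Ideal.span_le.2 ?_))
      · rw [Ideal.map_span, Ideal.span_le]
        rintro _ ⟨_, ⟨j, rfl⟩, rfl⟩
        refine (Ideal.unit_mul_mem_iff_mem _ (IsLocalization.map_units S2 (⟨_, hD⟩ : q.primeCompl))).1 ?_
        rw [← map_mul]
        exact Ideal.mem_map_of_mem _ (hspan j)
      · rintro _ ⟨k, rfl⟩
        show ∑ l, Wm k l * g l ∈ _
        exact Ideal.sum_mem _ fun l _ => Ideal.mul_mem_left _ _ (Ideal.subset_span ⟨l, rfl⟩)
    rw [heq]
    exact h6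
  -- assemble
  let G := Ideal.span (Set.range g)
  have : Algebra.FinitePresentation A (P₀ ⧸ G) := Algebra.FinitePresentation.quotient (Submodule.fg_span (Set.finite_range g))
  let τ₁ : (P₀ ⧸ G) →ₐ[A] T := Ideal.Quotient.liftₐ G ρ fun x hx => (Ideal.span_le.2 (Set.range_subset_iff.2 hgK) : G ≤ K) hx
  have hI₁ : I.map (algebraMap A (P₀ ⧸ G)) = IP.map (Ideal.Quotient.mk G) := by
    rw [hIPdef, Ideal.map_map]
    rfl
  obtain ⟨τ₂, hτ₂s, hτ₂c, hτ₂k⟩ := exists_away_reduction I τ₁ (fun t => by
      obtain ⟨x, rfl⟩ := hρs t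
      exact ⟨Ideal.Quotient.mk G x, rfl⟩)
    (Ideal.map_le_iff_le_comap.2 fun a ha => by
      rw [Ideal.mem_comap, RingHom.mem_ker]
      refine (τ₁.commutes a).trans ?_
      rw [IsScalarTower.algebraMap_apply A (A ⧸ I) T, Ideal.Quotient.algebraMap_eq, Ideal.Quotient.eq_zero_iff_mem.2 ha, map_zero])
    (Ideal.Quotient.mk G u) (by
      show ρ u = 1
      rw [← sub_eq_zero, ← map_one ρ, ← map_sub]
      exact hu1)
    (fun x hx => by
      obtain ⟨x, rfl⟩ := Ideal.Quotient.mk_surjective x
      have h1 := Ideal.mem_map_of_mem (Ideal.Quotient.mk G) (huK x hx)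
      rw [Ideal.map_sup, Ideal.map_quotient_self, bot_sup_eq, map_mul] at h1
      rw [hI₁]
      exact h1)
  let R₂ := Localization.Away (Ideal.Quotient.mk G u)
  have hfp₂ : Algebra.FinitePresentation A R₂ :=
    have : Algebra.FinitePresentation (P₀ ⧸ G) R₂ := IsLocalization.Away.finitePresentation (Ideal.Quotient.mk G u)
    .trans A (P₀ ⧸ G) R₂
  let good : Set R₂ := {h | Synt.IsSyntomic A (Localization.Away h)}
  have hcover : Ideal.span good ⊔ I.map (algebraMap A R₂) = ⊤ := by
    by_contra hne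
    obtain ⟨M, hM, hle⟩ := Ideal.exists_le_maximal _ hne
    let q₁ := M.comap (algebraMap (P₀ ⧸ G) R₂)
    let q := q₁.comap (Ideal.Quotient.mk G)
    have huq : u ∉ q := fun hmem => hM.ne_top (Ideal.eq_top_of_isUnit_mem _ hmem (IsLocalization.Away.algebraMap_isUnit _))
    have hGq : G ≤ q := fun x hx => by
      show Ideal.Quotient.mk G x ∈ q₁
      rw [Ideal.Quotient.eq_zero_iff_mem.2 hx]
      exact zero_mem _
    have hIq : IP ≤ q := Ideal.map_le_iff_le_comap.2 fun a ha => by
      show algebraMap (P₀ ⧸ G) R₂ (Ideal.Quotient.mk G (algebraMap A P₀ a)) ∈ M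
      rw [Ideal.Quotient.mk_algebraMap, ← IsScalarTower.algebraMap_apply]
      exact hle (Submodule.mem_sup_right (Ideal.mem_map_of_mem _ ha))
    have hfl := hflat q hGq hIq huq
    have : IsLocalization (q.primeCompl.map (Ideal.Quotient.mkₐ A G).toRingHom) (Localization.AtPrime q₁) :=
      cast (congrArg (fun N => IsLocalization N (Localization.AtPrime q₁))
        (map_primeCompl_comap (Ideal.Quotient.mkₐ A G).toRingHom Ideal.Quotient.mk_surjective q₁).symm)
        Localization.isLocalization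
    obtain ⟨π, hπ, -, hπk⟩ := exists_localizationMap (Ideal.Quotient.mkₐ A G) Ideal.Quotient.mk_surjective q.primeCompl
      (Localization.AtPrime q) (Localization.AtPrime q₁)
    rw [show RingHom.ker (Ideal.Quotient.mkₐ A G).toRingHom = G from Ideal.mk_ker] at hπk
    have hfl₁ : Module.Flat A (Localization.AtPrime q₁) := @Module.Flat.of_linearEquiv A _ _ _ _ _ _ _ hfl
      ((Ideal.quotientEquivAlgOfEq A hπk.symm).trans (Ideal.quotientKerAlgEquivOfSurjective hπ)).symm.toLinearEquiv
    have hloc := IsLocalization.isLocalization_isLocalization_atPrime_isLocalization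
      (Submonoid.powers (Ideal.Quotient.mk G u)) (Localization.AtPrime M) M
    have hloc₁ : IsLocalization q₁.primeCompl (Localization.AtPrime M) := hloc
    have : IsScalarTower A (P₀ ⧸ G) (Localization.AtPrime M) := .of_algebraMap_eq fun x => by
      rw [IsScalarTower.algebraMap_apply A R₂ (Localization.AtPrime M), IsScalarTower.algebraMap_apply A (P₀ ⧸ G) R₂,
        ← IsScalarTower.algebraMap_apply (P₀ ⧸ G) R₂ (Localization.AtPrime M)]
    have : Module.Flat A (Localization.AtPrime M) := Module.Flat.of_linearEquiv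
      ((IsLocalization.algEquiv q₁.primeCompl (Localization.AtPrime M) (Localization.AtPrime q₁)).restrictScalars A).toLinearEquiv
    obtain ⟨h, hh, hsyn⟩ := exists_syntomic_nhd_of_reduction I τ₂ hτ₂s hτ₂k hT M (le_sup_right.trans hle)
    exact hh (hle (Submodule.mem_sup_left (Ideal.subset_span (show h ∈ good from hsyn))))
  obtain ⟨h, hh, i, hi, hhi⟩ := Submodule.mem_sup.1 (hcover.ge (Submodule.mem_top : (1 : R₂) ∈ ⊤))
  have hτh : τ₂ h = 1 := by
    have h1 := congrArg τ₂ hhi
    rw [map_add, map_one, show τ₂ i = 0 from hτ₂k.ge hi, add_zero] at h1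
    exact h1
  obtain ⟨τ₃, hτ₃s, -, hτ₃k⟩ := exists_away_reduction I τ₂ hτ₂s hτ₂k.ge h hτh
    fun x hx => Ideal.mul_mem_left _ _ (hτ₂k.le hx)
  refine ⟨Localization.Away h, inferInstance, inferInstance, τ₃, ?_, hτ₃s, hτ₃k⟩
  refine isSyntomic_of_span A (algebraMap R₂ (Localization.Away h) '' good) ?_ ?_
  · rw [← Ideal.map_span]
    exact Ideal.eq_top_of_isUnit_mem _ (Ideal.mem_map_of_mem _ hh) (IsLocalization.Away.algebraMap_isUnit h)
  · rintro _ ⟨s, hs, rfl⟩
    let L := Localization.Away (algebraMap R₂ (Localization.Away h) s)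
    have : IsLocalization.Away (h * s) L := IsLocalization.Away.mul' (Localization.Away h) L h s
    have : IsLocalization.Away (s * h) L := by rw [mul_comm]; infer_instance
    let L' := Localization.Away (algebraMap R₂ (Localization.Away s) h)
    have : IsLocalization.Away (s * h) L' := IsLocalization.Away.mul' (Localization.Away s) L' s h
    exact isSyntomic_congr A ((IsLocalization.algEquiv (Submonoid.powers (s * h)) L' L).restrictScalars A)
      (isSyntomic_away A hs (algebraMap R₂ (Localization.Away s) h) L')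

end Main

end Groth.Agent.SyntLift
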